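/-
Consequences: `SL(2, q) = PSL(2, q)` in characteristic two; simple groups; self-centralizing elements.
-/
import Mathlib
import Cfsg.Agent.Lib.BrauerReynolds.Main

set_option autoImplicit false
set_option linter.unusedSectionVars false
set_option linter.style.haveILetI false

namespace Cfsg.Agent.Lib.BrauerReynolds

open Subgroup

/-- `SL(2, F) ≃* PSL(2, F)` for a field of two-power order. -/
theorem nonempty_SL_equiv_PSL {F : Type} [Field F] [Fintype F] {m : ℕ}
    (hF : Fintype.card F = 2 ^ m) (hm : 1 ≤ m) :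
    Nonempty (Matrix.SpecialLinearGroup (Fin 2) F ≃* Matrix.ProjectiveSpecialLinearGroup (Fin 2) F) := by
  have hbot : Subgroup.center (Matrix.SpecialLinearGroup (Fin 2) F) = ⊥ := by
    rw [Subgroup.eq_bot_iff_card, LinGroup.card_center_SL, Fintype.card_fin, Nat.card_units,
      Nat.card_eq_fintype_card, hF]
    refine Nat.prime_two.coprime_iff_not_dvd.mpr ?_
    have : 2 ∣ 2 ^ m := dvd_pow_self 2 (by omega)
    have : 0 < 2 ^ m := Nat.two_pow_pos m
    omega
  exact ⟨(QuotientGroup.quotientBot.symm.trans (QuotientGroup.quotientMulEquivOfEq hbot.symm))⟩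

theorem one_le_of_fermat {p m : ℕ} (hp : p = 2 ^ m + 1) (h3 : 3 < p) : 1 ≤ m := by
  rcases m with _ | m
  · simp at hp; omega
  · omega

/-- A perfect group whose Brauer number is small. -/
theorem not_fRep_of_lt {p n : ℕ} (h : 2 * n < p + 3) : ¬ FRep p n := by
  rintro ⟨h', u, hh, hu, he⟩
  have h1 : u * p ≤ h' * u * p := Nat.mul_le_mul_right p (Nat.le_mul_of_pos_left u hh)
  have h2 : 2 * n * (u + 1) ≤ (p + 2) * (u + 1) := Nat.mul_le_mul_right _ (by omega)
  have h3 : 2 * n * (u + 1) = 2 * (n * (u + 1)) := by ring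
  have h4 : (p + 2) * (u + 1) = u * p + p + 2 * u + 2 := by ring
  have h5 : p ≤ u * p := Nat.le_mul_of_pos_left p hu
  have h6 : u ≤ u ^ 2 := Nat.le_self_pow (by norm_num) u
  omega

variable {G : Type*} [Group G] [Finite G] {p : ℕ} [hp : Fact p.Prime]

/-- A self-centralizing element of prime order lies in a Sylow subgroup of order `p`. -/
theorem exists_sylow_card_of_selfCentralizing {z : G} (hz : orderOf z = p)
    (hC : centralizer ({z} : Set G) = zpowers z) :
    ∃ P : Sylow p G, Nat.card P = p ∧ (P : Subgroup G) = zpowers z := by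
  have hzp : IsPGroup p (zpowers z) := IsPGroup.of_card (n := 1) (by rw [Nat.card_zpowers, hz, pow_one])
  obtain ⟨P, hP⟩ := hzp.exists_le_sylow
  haveI : Nontrivial (P : Subgroup G) := by
    refine ⟨⟨⟨z, hP (mem_zpowers z)⟩, 1, fun h => ?_⟩⟩
    have := congrArg Subtype.val h
    simp only [OneMemClass.coe_one] at this
    rw [this, orderOf_one] at hz
    exact hp.out.ne_one hz.symm
  obtain ⟨c, hc⟩ := @exists_ne _ (P.2.center_nontrivial) 1
  have hcz : ((c : (P : Subgroup G)) : G) ∈ zpowers z := by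
    rw [← hC, mem_centralizer_singleton_iff]
    exact (congrArg Subtype.val (mem_center_iff.mp c.2 ⟨z, hP (mem_zpowers z)⟩)).symm
  have hc1 : ((c : (P : Subgroup G)) : G) ≠ 1 := fun h => hc (Subtype.ext (Subtype.ext h))
  have hgen : zpowers ((c : (P : Subgroup G)) : G) = zpowers z := by
    refine Subgroup.eq_of_le_of_card_ge (zpowers_le.mpr hcz) ?_
    rw [Nat.card_zpowers, Nat.card_zpowers, hz]
    rcases (Nat.dvd_prime hp.out).mp
      (hz ▸ Nat.card_zpowers z ▸ Subgroup.orderOf_dvd_natCard _ hcz) with h | h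
    · exact absurd (orderOf_eq_one_iff.mp h) hc1
    · rw [h]
  have hle : (P : Subgroup G) ≤ zpowers z := by
    intro g hg
    rw [← hC, mem_centralizer_singleton_iff]
    have hgc : Commute g ((c : (P : Subgroup G)) : G) :=
      (congrArg Subtype.val (mem_center_iff.mp c.2 ⟨g, hg⟩))
    obtain ⟨k, hk⟩ := mem_zpowers_iff.mp (show z ∈ zpowers ((c : (P : Subgroup G)) : G) by
      rw [hgen]; exact mem_zpowers z)
    rw [← hk]
    exact (hgc.zpow_right k).eq
  have heq := le_antisymm hle hP
  refine ⟨P, ?_, heq⟩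
  show Nat.card (P : Subgroup G) = p
  rw [heq, Nat.card_zpowers, hz]

/-- With a self-centralizing element and equal Sylow numbers the core is trivial. -/
theorem core_eq_bot_of_card_sylow_eq {z : G} (hz : orderOf z = p)
    (hC : centralizer ({z} : Set G) = zpowers z) (P : Sylow p G) (hP : (P : Subgroup G) = zpowers z)
    (H : Subgroup G) [H.Normal] (hH : ¬ p ∣ Nat.card H)
    (heq : Nat.card (Sylow p G) = Nat.card (Sylow p (G ⧸ H))) : H = ⊥ := by
  set f := QuotientGroup.mk' H
  have hf : Function.Surjective f := QuotientGroup.mk'_surjective H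
  let Q := P.mapSurjective hf
  have hle : (normalizer ((P : Subgroup G) : Set G)) ≤
      (normalizer ((Q : Subgroup (G ⧸ H)) : Set (G ⧸ H))).comap f :=
    map_le_iff_le_comap.mp (le_normalizer_map f)
  have hN : normalizer ((P : Subgroup G) : Set G) =
      (normalizer ((Q : Subgroup (G ⧸ H)) : Set (G ⧸ H))).comap f := by
    refine Subgroup.eq_of_le_of_card_ge hle ?_
    have h1 := (normalizer ((P : Subgroup G) : Set G)).card_mul_index
    have h2 := ((normalizer ((Q : Subgroup (G ⧸ H)) : Set (G ⧸ H))).comap f).card_mul_index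
    have hQ : Nat.card (Sylow p (G ⧸ H)) = (normalizer ((Q : Subgroup (G ⧸ H)) : Set (G ⧸ H))).index :=
      Q.card_eq_index_normalizer
    rw [index_comap_of_surjective _ hf, ← hQ, ← heq] at h2
    have hP' : Nat.card (Sylow p G) = (normalizer ((P : Subgroup G) : Set G)).index :=
      P.card_eq_index_normalizer
    rw [← hP'] at h1
    exact (Nat.eq_of_mul_eq_mul_right Nat.card_pos (h2.trans h1.symm)).le
  rw [eq_bot_iff]
  intro h hh
  have hn : h ∈ normalizer ((P : Subgroup G) : Set G) := by
    rw [hN, mem_comap, show f h = 1 from (QuotientGroup.eq_one_iff h).mpr hh]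
    exact one_mem _
  have hzP : z ∈ (P : Subgroup G) := hP ▸ mem_zpowers z
  have h1 : h * z * h⁻¹ * z⁻¹ ∈ (P : Subgroup G) :=
    mul_mem ((mem_normalizer_iff.mp hn z).mp hzP) (inv_mem hzP)
  have h2 : h * z * h⁻¹ * z⁻¹ ∈ H := by
    have := mul_mem hh (Subgroup.Normal.conj_mem inferInstance _ (inv_mem hh) z)
    simpa [mul_assoc] using this
  have hbot : h * z * h⁻¹ * z⁻¹ = 1 := by
    have hc : Nat.Coprime (Nat.card (P : Subgroup G)) (Nat.card H) := by
      rw [hP, Nat.card_zpowers, hz]
      exact hp.out.coprime_iff_not_dvd.mpr hH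
    exact orderOf_eq_one_iff.mp (Nat.eq_one_of_dvd_coprimes hc
      (Subgroup.orderOf_dvd_natCard _ h1) (Subgroup.orderOf_dvd_natCard _ h2))
  have hhC : h ∈ zpowers z := by
    rw [← hC, mem_centralizer_singleton_iff]
    calc h * z = h * z * h⁻¹ * z⁻¹ * (z * h) := by group
      _ = z * h := by rw [hbot, one_mul]
  rw [mem_bot]
  refine orderOf_eq_one_iff.mp (Nat.eq_one_of_dvd_coprimes (hp.out.coprime_iff_not_dvd.mpr hH)
    ?_ (Subgroup.orderOf_dvd_natCard _ hh))
  exact (Subgroup.orderOf_dvd_natCard _ hhC).trans (dvd_of_eq ((Nat.card_zpowers z).trans hz))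

end Cfsg.Agent.Lib.BrauerReynolds
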